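import Groth.Agent.SuppGood.HDI
import Groth.Prelude.Def_DDual2

/-!
`HDI` and restriction of scalars.
-/

set_option autoImplicit false
set_option linter.unusedSectionVars false
set_option linter.style.haveILetI false

universe u

open CategoryTheory CategoryTheory.Limits Groth.SuppCx

attribute [local instance] HasDerivedCategory.standard

namespace Groth.SuppGood

variable {A B : Type u} [CommRing A] [CommRing B] [Algebra A B]

/-- Cohomology of torsion parts of a restricted complex. -/
theorem nonempty_Hc_restrict (I : Ideal A) (L : CochainComplex (ModuleCat.{u} B) ℤ) (j i k : ℤ) :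
    Nonempty (Hc (((ModuleCat.restrictScalars (algebraMap A B)).mapHomologicalComplex (ComplexShape.up ℤ)).obj L)
        (fun n => DRing.torsionSub I
          ((((ModuleCat.restrictScalars (algebraMap A B)).mapHomologicalComplex (ComplexShape.up ℤ)).obj L).X n)) j i k
      ≃ₗ[A] ((ModuleCat.restrictScalars (algebraMap A B)).obj
        (ModuleCat.of B (Hc L (fun n => DRing.torsionSub (I.map (algebraMap A B)) (L.X n)) j i k)) : Type u)) := by
  set R := (ModuleCat.restrictScalars (algebraMap A B)).mapHomologicalComplex (ComplexShape.up ℤ)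
  have hmem : ∀ (n : ℤ) (x : L.X n), x ∈ DRing.torsionSub I ((R.obj L).X n) ↔
      x ∈ DRing.torsionSub (I.map (algebraMap A B)) (L.X n) := by
    intro n x
    letI : Module A (L.X n) := Module.compHom (L.X n) (algebraMap A B)
    haveI : IsScalarTower A B (L.X n) := IsScalarTower.of_algebraMap_smul fun _ _ => rfl
    have h := Groth.LocCohTransform.torsionSub_restrict_eq A B I (L.X n)
    change x ∈ DRing.torsionSub I (L.X n) ↔ _
    rw [← h]
    rfl
  let ψ : Zc (R.obj L) (fun n => DRing.torsionSub I ((R.obj L).X n)) i k →ₗ[A]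
      ((ModuleCat.restrictScalars (algebraMap A B)).obj
        (ModuleCat.of B (Hc L (fun n => DRing.torsionSub (I.map (algebraMap A B)) (L.X n)) j i k)) : Type u) :=
    { toFun := fun z => (Submodule.Quotient.mk ⟨(z.1 : L.X i), (hmem i z.1).1 z.2.1, z.2.2⟩ :
        Hc L (fun n => DRing.torsionSub (I.map (algebraMap A B)) (L.X n)) j i k)
      map_add' := fun _ _ => rfl
      map_smul' := fun _ _ => rfl }
  have hsurj : Function.Surjective ψ := fun t => by
    obtain ⟨⟨x, hx, hdx⟩, ht⟩ := Submodule.Quotient.mk_surjective _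
      (show Hc L (fun n => DRing.torsionSub (I.map (algebraMap A B)) (L.X n)) j i k from t)
    exact ⟨⟨x, (hmem i x).2 hx, hdx⟩, ht⟩
  have hker : LinearMap.ker ψ = (Bc (R.obj L) (fun n => DRing.torsionSub I ((R.obj L).X n)) j i).comap
      (Zc (R.obj L) (fun n => DRing.torsionSub I ((R.obj L).X n)) i k).subtype := by
    refine le_antisymm (fun z hz => ?_) fun z hz => ?_
    · obtain ⟨w, hw, hwz⟩ := mem_Bc.1 (Submodule.mem_comap.1 ((Submodule.Quotient.mk_eq_zero
        ((Bc L (fun n => DRing.torsionSub (I.map (algebraMap A B)) (L.X n)) j i).comap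
          (Zc L (fun n => DRing.torsionSub (I.map (algebraMap A B)) (L.X n)) i k).subtype)).1 (LinearMap.mem_ker.1 hz)))
      exact Submodule.mem_comap.2 (mem_Bc.2 ⟨w, (hmem j w).2 hw, hwz⟩)
    · obtain ⟨w, hw, hwz⟩ := mem_Bc.1 (Submodule.mem_comap.1 hz)
      exact LinearMap.mem_ker.2 ((Submodule.Quotient.mk_eq_zero _).2
        (Submodule.mem_comap.2 (mem_Bc.2 ⟨w, (hmem j w).1 hw, hwz⟩)))
  exact ⟨(Submodule.quotEquivOfEq _ _ hker.symm).trans (ψ.quotKerEquivOfSurjective hsurj)⟩

theorem nonempty_HDI_restrict [IsNoetherianRing A] [IsNoetherianRing B] (I : Ideal A) (K : Dual.D B) (i : ℤ) :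
    Nonempty (Dual2.HDI A I ((DRing.restrictD (algebraMap A B)).obj K) i ≃ₗ[A]
      ((ModuleCat.restrictScalars (algebraMap A B)).obj (Dual2.HDI B (I.map (algebraMap A B)) K i) : Type (u + 1))) := by
  classical
  obtain ⟨s, hs⟩ := IsNoetherian.noetherian I
  let K₀ := DerivedCategory.Q.objPreimage K
  obtain ⟨L, ι, hι, hLK, hL⟩ := Groth.LocCohTransform.RgammaCompute.exists_resolution K₀
  haveI := hι
  haveI := hLK
  let eL : DerivedCategory.Q.obj L ≅ K :=
    (asIso (DerivedCategory.Q.map ι)).symm ≪≫ DerivedCategory.Q.objObjPreimageIso K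
  set R := (ModuleCat.restrictScalars (algebraMap A B)).mapHomologicalComplex (ComplexShape.up ℤ)
  obtain ⟨J, φ, hφ, hJK, hJ⟩ := Groth.LocCohTransform.RgammaCompute.exists_resolution (R.obj L)
  haveI := hφ
  haveI := hJK
  let eJ : DerivedCategory.Q.obj J ≅ (DRing.restrictD (algebraMap A B)).obj K :=
    (asIso (DerivedCategory.Q.map φ)).symm ≪≫
      ((ModuleCat.restrictScalars.{u} (algebraMap A B)).mapDerivedCategoryFactors.app L).symm ≪≫
      (DRing.restrictD (algebraMap A B)).mapIso eL
  obtain ⟨f1⟩ := nonempty_HDI_equiv I eJ (sub_add_cancel i 1) (k := i + 1) rfl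
  obtain ⟨f4⟩ := nonempty_HDI_equiv (I.map (algebraMap A B)) eL (sub_add_cancel i 1) (k := i + 1) rfl
  have hdivL : ∀ n, DivTor s ((R.obj L).X n) := fun n => by
    letI : Module B ((R.obj L).X n) := (L.X n).isModule
    haveI : IsScalarTower A B ((R.obj L).X n) := IsScalarTower.of_algebraMap_smul fun _ _ => rfl
    haveI : Module.Injective B ((R.obj L).X n) := (Module.injective_iff_injective_object B (L.X n)).2 (hL n)
    exact divTor_restrict (B := B) ((R.obj L).X n)
  have hdivJ : ∀ n, DivTor s (J.X n) := fun n => by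
    haveI := (Module.injective_iff_injective_object A (J.X n)).2 (hJ n)
    exact divTor_of_injective (J.X n)
  obtain ⟨f2⟩ := exists_torsion_bijection hφ s hdivL hdivJ (sub_add_cancel i 1) (k := i + 1) rfl
  rw [show Ideal.span (s : Set A) = I from hs] at f2
  obtain ⟨f3⟩ := nonempty_Hc_restrict I L (i - 1) i (i + 1)
  let f4' : ((ModuleCat.restrictScalars (algebraMap A B)).obj (ModuleCat.of B
      (Hc L (fun n => DRing.torsionSub (I.map (algebraMap A B)) (L.X n)) (i - 1) i (i + 1))) : Type u) ≃ₗ[A]
      ((ModuleCat.restrictScalars (algebraMap A B)).obj (Dual2.HDI B (I.map (algebraMap A B)) K i) : Type (u + 1)) :=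
    { toFun := fun x => f4.symm x
      invFun := fun x => f4 x
      map_add' := fun x y => map_add f4.symm x y
      map_smul' := fun a x => map_smul f4.symm (algebraMap A B a) x
      left_inv := fun x => f4.apply_symm_apply x
      right_inv := fun x => f4.symm_apply_apply x }
  exact ⟨f1 ≪≫ₗ f2.symm ≪≫ₗ f3 ≪≫ₗ f4'⟩

end Groth.SuppGood
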