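import Groth.Agent.SuppGood.HDI
import Groth.Agent.DualCore.Extend
import Mathlib.RingTheory.Flat.Basic
import Mathlib.LinearAlgebra.TensorProduct.RightExactness

/-!
`HDI` and flat base change.
-/

set_option autoImplicit false
set_option linter.unusedSectionVars false
set_option linter.style.haveILetI false

universe u

open CategoryTheory CategoryTheory.Limits TensorProduct Groth.SuppCx Groth.DualCore

attribute [local instance] HasDerivedCategory.standard

namespace Groth.SuppGood

variable {A B : Type u} [CommRing A] [IsNoetherianRing A] [CommRing B] [IsNoetherianRing B] [Algebra A B]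
  [Module.Flat A B]

/-- Cohomology of torsion parts commutes with flat base change. -/
theorem nonempty_Hc_baseChange (I : Ideal A) (J : CochainComplex (ModuleCat.{u} A) ℤ) (j i k : ℤ) :
    Nonempty (B ⊗[A] Hc J (fun n => DRing.torsionSub I (J.X n)) j i k ≃ₗ[B]
      Hc (((ext A B).mapHomologicalComplex (ComplexShape.up ℤ)).obj J)
        (fun n => DRing.torsionSub (I.map (algebraMap A B))
          ((((ext A B).mapHomologicalComplex (ComplexShape.up ℤ)).obj J).X n)) j i k) := by
  set E := ((ext A B).mapHomologicalComplex (ComplexShape.up ℤ)).obj J with hE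
  set G : ∀ n, Submodule A (J.X n) := fun n => DRing.torsionSub I (J.X n) with hG
  set G' : ∀ n, Submodule B (E.X n) := fun n => DRing.torsionSub (I.map (algebraMap A B)) (E.X n) with hG'
  let ev : ∀ n, B ⊗[A] G n →ₗ[B] E.X n := fun n =>
    (extEquiv (J.X n)).toLinearMap ∘ₗ (G n).subtype.baseChange B
  have hev_inj : ∀ n, Function.Injective (ev n) := fun n =>
    (extEquiv (J.X n)).injective.comp (Groth.LocCohTransform.baseChange_subtype_injective (R' := B) (J.X n) (G n))
  have hev_range : ∀ n, LinearMap.range (ev n) = G' n := fun n => by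
    rw [LinearMap.range_comp, Groth.LocCohTransform.range_baseChange_torsionSub]
    exact Groth.LocCohTransform.torsionSub_congr B (extEquiv (J.X n)) (I.map (algebraMap A B))
  let dG : ∀ n m, G n →ₗ[A] G m := fun n m =>
    LinearMap.codRestrict (G m) ((J.d n m).hom ∘ₗ (G n).subtype) fun x => DRing.map_mem_torsionSub I (J.d n m).hom x.2
  have hev_d : ∀ n m (x : B ⊗[A] G n), (E.d n m).hom (ev n x) = ev m ((dG n m).baseChange B x) := by
    intro n m x
    show (E.d n m).hom (extEquiv (J.X n) ((G n).subtype.baseChange B x)) =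
      extEquiv (J.X m) ((G m).subtype.baseChange B ((dG n m).baseChange B x))
    refine (ext_map_extEquiv (J.d n m) _).trans (congrArg _ ?_)
    rw [← LinearMap.comp_apply, ← LinearMap.baseChange_comp, ← LinearMap.comp_apply, ← LinearMap.baseChange_comp]
    rfl
  let ιZ : Zc J G i k →ₗ[A] G i := Submodule.inclusion (fun x hx => hx.1)
  have hZex : Function.Exact ιZ (dG i k) := by
    intro x
    constructor
    · intro hx
      exact ⟨⟨x.1, x.2, congrArg Subtype.val hx⟩, Subtype.ext rfl⟩
    · rintro ⟨z, rfl⟩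
      exact Subtype.ext z.2.2
  let η : B ⊗[A] Zc J G i k →ₗ[B] Hc E G' j i k :=
    Submodule.mkQ _ ∘ₗ LinearMap.codRestrict _ (ev i ∘ₗ ιZ.baseChange B) fun x => by
      refine ⟨hev_range i ▸ LinearMap.mem_range_self _ _, ?_⟩
      show (E.d i k).hom (ev i (ιZ.baseChange B x)) = 0
      rw [hev_d, show (dG i k).baseChange B (ιZ.baseChange B x) = 0 from ?_, map_zero]
      exact (Module.Flat.lTensor_exact B hZex).apply_apply_eq_zero x
  have hη : Function.Surjective η := fun t => by
    obtain ⟨⟨z, hz, hdz⟩, rfl⟩ := Submodule.Quotient.mk_surjective _ t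
    obtain ⟨w, rfl⟩ : z ∈ LinearMap.range (ev i) := (hev_range i).symm ▸ hz
    have h0 : (dG i k).baseChange B w = 0 := hev_inj k (by rw [← hev_d, map_zero]; exact hdz)
    obtain ⟨x, hx⟩ := (Module.Flat.lTensor_exact B hZex w).1 h0
    exact ⟨x, congrArg Submodule.Quotient.mk (Subtype.ext (congrArg (ev i) hx))⟩
  let P : G j →ₗ[A] Zc J G i k := LinearMap.codRestrict _ ((J.d j i).hom ∘ₗ (G j).subtype)
    fun x => ⟨DRing.map_mem_torsionSub I (J.d j i).hom x.2, d_d_apply j i k x.1⟩
  let π : Zc J G i k →ₗ[A] Hc J G j i k := Submodule.mkQ _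
  have hPex : Function.Exact P π := by
    intro z
    constructor
    · intro hz
      obtain ⟨w, hw, hwz⟩ := mem_Bc.1 (Submodule.mem_comap.1
        ((Submodule.Quotient.mk_eq_zero ((Bc J G j i).comap (Zc J G i k).subtype)).1 hz))
      exact ⟨⟨w, hw⟩, Subtype.ext hwz⟩
    · rintro ⟨w, rfl⟩
      exact (Submodule.Quotient.mk_eq_zero _).2 (Submodule.mem_comap.2 (mem_Bc.2 ⟨w.1, w.2, rfl⟩))
  have hfac : ∀ y : B ⊗[A] G j, ev i (ιZ.baseChange B (P.baseChange B y)) = (E.d j i).hom (ev j y) := by
    intro y
    rw [hev_d]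
    refine congrArg _ ?_
    rw [← LinearMap.comp_apply, ← LinearMap.baseChange_comp]
    rfl
  have hπ : Function.Surjective (π.baseChange B) :=
    LinearMap.lTensor_surjective B (Submodule.mkQ_surjective _)
  have hπex : Function.Exact (P.baseChange B) (π.baseChange B) :=
    lTensor_exact B hPex (Submodule.mkQ_surjective _)
  have hker : LinearMap.ker η = LinearMap.ker (π.baseChange B) := by
    ext x
    constructor
    · intro hx
      obtain ⟨w, hw, hwx⟩ := mem_Bc.1 (Submodule.mem_comap.1
        ((Submodule.Quotient.mk_eq_zero ((Bc E G' j i).comap (Zc E G' i k).subtype)).1 (LinearMap.mem_ker.1 hx)))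
      obtain ⟨y, rfl⟩ : w ∈ LinearMap.range (ev j) := (hev_range j).symm ▸ hw
      rw [← hfac] at hwx
      have h1 : ιZ.baseChange B (P.baseChange B y) = ιZ.baseChange B x := hev_inj i hwx
      have h2 : P.baseChange B y = x :=
        Module.Flat.lTensor_preserves_injective_linearMap (M := B) ιZ
          (Submodule.inclusion_injective _) h1
      exact LinearMap.mem_ker.2 ((hπex x).2 ⟨y, h2⟩)
    · intro hx
      obtain ⟨y, rfl⟩ := (hπex x).1 (LinearMap.mem_ker.1 hx)
      refine LinearMap.mem_ker.2 ((Submodule.Quotient.mk_eq_zero _).2 (Submodule.mem_comap.2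
        (mem_Bc.2 ⟨ev j y, hev_range j ▸ LinearMap.mem_range_self _ _, ?_⟩)))
      exact (hfac y).symm
  exact ⟨((π.baseChange B).quotKerEquivOfSurjective hπ).symm ≪≫ₗ Submodule.quotEquivOfEq _ _ hker.symm ≪≫ₗ
    η.quotKerEquivOfSurjective hη⟩

/-- `B ⊗ M` and extension of scalars, in any universe. -/
noncomputable def extEquivU (M : ModuleCat.{u + 1} A) :
    B ⊗[A] M ≃ₗ[B] ((ModuleCat.extendScalars (algebraMap A B)).obj M : Type (u + 1)) :=
  { TensorProduct.congr (restrictSelf A B) (LinearEquiv.refl A M) with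
    toFun := TensorProduct.congr (restrictSelf A B) (LinearEquiv.refl A M)
    map_add' := fun x y => map_add _ x y
    map_smul' := fun b x => by
      induction x using TensorProduct.induction_on with
      | zero =>
        rw [smul_zero, map_zero]
        exact (smul_zero (A := ((ModuleCat.extendScalars (algebraMap A B)).obj M : Type (u + 1))) b).symm
      | tmul b' m => rfl
      | add x y hx hy =>
        rw [smul_add, map_add, hx, hy, map_add]
        exact (smul_add (A := ((ModuleCat.extendScalars (algebraMap A B)).obj M : Type (u + 1))) b _ _).symm }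

theorem nonempty_HDI_baseChange [DRing.HasLBaseChange (algebraMap A B)] (I : Ideal A) (K : Dual.D A) (i : ℤ) :
    Nonempty (Dual2.HDI B (I.map (algebraMap A B)) ((DRing.LBaseChange (algebraMap A B)).obj K) i ≃ₗ[B]
      ((ModuleCat.extendScalars (algebraMap A B)).obj (Dual2.HDI A I K i) : Type (u + 1))) := by
  classical
  obtain ⟨G, hG⟩ := IsNoetherian.noetherian I
  obtain ⟨J, ι, hι, hJK, hJ⟩ := Groth.LocCohTransform.RgammaCompute.exists_resolution (DerivedCategory.Q.objPreimage K)
  haveI := hι
  haveI := hJK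
  let eJ : DerivedCategory.Q.obj J ≅ K :=
    (asIso (DerivedCategory.Q.map ι)).symm ≪≫ DerivedCategory.Q.objObjPreimageIso K
  set E := ((ext A B).mapHomologicalComplex (ComplexShape.up ℤ)).obj J
  obtain ⟨J', φ, hφ, hJ'K, hJ'⟩ := Groth.LocCohTransform.RgammaCompute.exists_resolution E
  haveI := hφ
  haveI := hJ'K
  let eJ' : DerivedCategory.Q.obj J' ≅ (DRing.LBaseChange (algebraMap A B)).obj K :=
    (asIso (DerivedCategory.Q.map φ)).symm ≪≫ ((ext A B).mapDerivedCategoryFactors.app J).symm ≪≫
      (extD A B).mapIso eJ ≪≫ ((LBaseChangeIso A B).app K).symm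
  obtain ⟨f1⟩ := nonempty_HDI_equiv (I.map (algebraMap A B)) eJ' (sub_add_cancel i 1) (k := i + 1) rfl
  obtain ⟨f4⟩ := nonempty_HDI_equiv I eJ (sub_add_cancel i 1) (k := i + 1) rfl
  have hdE : ∀ n, DivTor (G.image (algebraMap A B)) (E.X n) := fun n => by
    haveI := (Module.injective_iff_injective_object A (J.X n)).2 (hJ n)
    exact (divTor_baseChange (B := B) G (J.X n)).of_equiv (extEquiv (J.X n))
  have hdJ' : ∀ n, DivTor (G.image (algebraMap A B)) (J'.X n) := fun n => by
    haveI := (Module.injective_iff_injective_object B (J'.X n)).2 (hJ' n)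
    exact divTor_of_injective (J'.X n)
  obtain ⟨f2⟩ := exists_torsion_bijection hφ _ hdE hdJ' (sub_add_cancel i 1) (k := i + 1) rfl
  rw [show Ideal.span ((G.image (algebraMap A B) : Finset B) : Set B) = I.map (algebraMap A B) by
    rw [Finset.coe_image, ← Ideal.map_span, show Ideal.span (G : Set A) = I from hG]] at f2
  obtain ⟨f3⟩ := nonempty_Hc_baseChange (B := B) I J (i - 1) i (i + 1)
  exact ⟨f1 ≪≫ₗ f2.symm ≪≫ₗ f3.symm ≪≫ₗ LinearEquiv.baseChange A B _ _ f4.symm ≪≫ₗ
    extEquivU (Dual2.HDI A I K i)⟩

end Groth.SuppGood
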