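import Groth.Agent.SuppGood.Div
import Groth.Agent.SuppCx.Basic
import Groth.Agent.BiextChow.HomologyElem

/-!
Torsion subcomplexes of quasi-isomorphic complexes with divisible torsion.
-/

set_option autoImplicit false
set_option linter.unusedSectionVars false
set_option linter.style.haveILetI false

universe u

open CategoryTheory Groth.SuppCx

namespace Groth.SuppGood

variable {A : Type u} [CommRing A]

theorem step' (f : A) (C : CochainComplex (ModuleCat.{u} A) ℤ) (N : ∀ n, Submodule A (C.X n))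
    (hd : ∀ i j, ∀ x ∈ N i, (C.d i j).hom x ∈ N j)
    (hdiv : ∀ (n : ℤ) (k : ℕ), ∀ y ∈ N n, ∃ y' ∈ N n, ∃ m : ℕ, f ^ m • (y - f ^ k • y') = 0)
    (ht : ∀ n, ∀ x ∈ N n, (C.d n (n + 1)).hom x = 0 → ∃ y ∈ N (n - 1), (C.d (n - 1) n).hom y = x)
    (n : ℤ) (x : C.X n) (k : ℕ) (hk : f ^ k • x = 0) (y : C.X (n - 1)) (hy : y ∈ N (n - 1))
    (hyx : (C.d (n - 1) n).hom y = x) :
    ∃ y' ∈ N (n - 1), (∃ k : ℕ, f ^ k • y' = 0) ∧ (C.d (n - 1) n).hom y' = x := by
  have hcyc : (C.d (n - 1) (n - 1 + 1)).hom (f ^ k • y) = 0 := by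
    rw [sub_add_cancel, map_smul, hyx, hk]
  obtain ⟨z, hz, hzy⟩ := ht (n - 1) (f ^ k • y) ((N _).smul_mem _ hy) hcyc
  obtain ⟨z', hz', m, hm⟩ := hdiv (n - 1 - 1) k z hz
  refine ⟨y - (C.d (n - 1 - 1) (n - 1)).hom z', (N _).sub_mem hy (hd _ _ _ hz'), ⟨m + k, ?_⟩, ?_⟩
  · rw [pow_add, mul_smul, smul_sub (f ^ k), ← hzy, ← map_smul, ← map_sub, ← map_smul, hm, map_zero]
  · rw [map_sub, hyx, show (C.d (n - 1) n).hom ((C.d (n - 1 - 1) (n - 1)).hom z') = 0 from
      congr(($(C.d_comp_d (n - 1 - 1) (n - 1) n)).hom z'), sub_zero]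

theorem mem_torsion_insert [DecidableEq A] {f : A} {t : Finset A} {M : Type u} [AddCommGroup M] [Module A M] (x : M) :
    x ∈ DRing.torsionSub (Ideal.span ((insert f t : Finset A) : Set A)) M ↔
      x ∈ DRing.torsionSub (Ideal.span (t : Set A)) M ∧ ∃ k : ℕ, f ^ k • x = 0 := by
  rw [show Ideal.span ((insert f t : Finset A) : Set A) = Ideal.span {f} ⊔ Ideal.span (t : Set A) by
    rw [Finset.coe_insert, Ideal.span_insert]]
  constructor
  · rintro ⟨k, hk⟩
    exact ⟨⟨k, fun a ha => hk a (Ideal.pow_right_mono le_sup_right k ha)⟩,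
      k, hk _ (Ideal.pow_right_mono le_sup_left k (Ideal.pow_mem_pow (Ideal.mem_span_singleton_self f) k))⟩
  · rintro ⟨⟨k, hk⟩, l, hl⟩
    refine ⟨l + k, fun a ha => ?_⟩
    have hle : (Ideal.span {f} ⊔ Ideal.span (t : Set A)) ^ (l + k) ≤ Ideal.span {f} ^ l ⊔ Ideal.span (t : Set A) ^ k :=
      Ideal.sup_pow_add_le_pow_sup_pow
    obtain ⟨b, hb, c, hc, rfl⟩ := Submodule.mem_sup.1 (hle ha)
    rw [Ideal.span_singleton_pow, Ideal.mem_span_singleton'] at hb
    obtain ⟨b, rfl⟩ := hb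
    rw [add_smul, mul_smul, hl, smul_zero, hk c hc, add_zero]

/-- The torsion subcomplex of an exact complex with divisible torsion is exact. -/
theorem exact_torsion (s : Finset A) (C : CochainComplex (ModuleCat.{u} A) ℤ)
    (hC : ∀ n, DivTor s (C.X n))
    (hex : ∀ n, ∀ x : C.X n, (C.d n (n + 1)).hom x = 0 → ∃ y : C.X (n - 1), (C.d (n - 1) n).hom y = x) :
    ∀ t : Finset A, t ⊆ s → ∀ n, ∀ x ∈ DRing.torsionSub (Ideal.span (t : Set A)) (C.X n),
      (C.d n (n + 1)).hom x = 0 →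
        ∃ y ∈ DRing.torsionSub (Ideal.span (t : Set A)) (C.X (n - 1)), (C.d (n - 1) n).hom y = x := by
  classical
  intro t
  induction t using Finset.induction_on with
  | empty =>
    intro _ n x _ hdx
    obtain ⟨y, hy⟩ := hex n x hdx
    refine ⟨y, ⟨1, fun a ha => ?_⟩, hy⟩
    rw [Finset.coe_empty, Ideal.span_empty, pow_one, Ideal.mem_bot] at ha
    rw [ha, zero_smul]
  | insert f t hft ih =>
    intro hts n x hx hdx
    have ht := (Finset.subset_insert f t).trans hts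
    have hf : f ∈ s := hts (Finset.mem_insert_self f t)
    obtain ⟨hx1, k, hk⟩ := (mem_torsion_insert x).1 hx
    obtain ⟨y, hy, hyx⟩ := ih ht n x hx1 hdx
    obtain ⟨y', hy', hfy', hy'x⟩ := step' f C (fun n => DRing.torsionSub (Ideal.span (t : Set A)) (C.X n))
      (fun i j x hx => DRing.map_mem_torsionSub _ (C.d i j).hom hx)
      (fun m l z hz => hC m t ht f hf l z hz) (fun m z hz hdz => ih ht m z hz hdz) n x k hk y hy hyx
    exact ⟨y', (mem_torsion_insert y').2 ⟨hy', hfy'⟩, hy'x⟩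

variable {E J : CochainComplex (ModuleCat.{u} A) ℤ} (φ : E ⟶ J)

theorem phi_d {i j : ℤ} (x : E.X i) : (J.d i j).hom ((φ.f i).hom x) = (φ.f j).hom ((E.d i j).hom x) :=
  congr(($(φ.comm i j)).hom x)

/-- The differential of the cone. -/
noncomputable def coneD (n : ℤ) : (E.X (n + 1) × J.X n) →ₗ[A] (E.X (n + 1 + 1) × J.X (n + 1)) :=
  LinearMap.prod (-((E.d (n + 1) (n + 1 + 1)).hom ∘ₗ LinearMap.fst A (E.X (n + 1)) (J.X n)))
    ((φ.f (n + 1)).hom ∘ₗ LinearMap.fst A (E.X (n + 1)) (J.X n) +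
      (J.d n (n + 1)).hom ∘ₗ LinearMap.snd A (E.X (n + 1)) (J.X n))

/-- The cone of a map of complexes. -/
noncomputable def cone : CochainComplex (ModuleCat.{u} A) ℤ :=
  CochainComplex.of (fun n => ModuleCat.of A (E.X (n + 1) × J.X n)) (fun n => ModuleCat.ofHom (coneD φ n))
    fun n => by
      ext1
      refine LinearMap.ext fun x => ?_
      refine Prod.ext ?_ ?_
      · show -(E.d (n + 1 + 1) (n + 1 + 1 + 1)).hom (-(E.d (n + 1) (n + 1 + 1)).hom x.1) = 0
        rw [map_neg, d_d_apply, neg_zero, neg_zero]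
      · show (φ.f (n + 1 + 1)).hom (-(E.d (n + 1) (n + 1 + 1)).hom x.1) +
          (J.d (n + 1) (n + 1 + 1)).hom ((φ.f (n + 1)).hom x.1 + (J.d n (n + 1)).hom x.2) = 0
        rw [map_add, d_d_apply, add_zero, phi_d, map_neg, neg_add_cancel]

theorem cone_d (n : ℤ) : ((cone φ).d n (n + 1)).hom = coneD φ n := by
  have h := CochainComplex.of_d (fun n => ModuleCat.of A (E.X (n + 1) × J.X n))
    (fun n => ModuleCat.ofHom (coneD φ n)) n
  exact congrArg ModuleCat.Hom.hom h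

variable {φ}

theorem cone_exact (hφ : QuasiIso φ) (n : ℤ) (z : (cone φ).X n) (hz : ((cone φ).d n (n + 1)).hom z = 0) :
    ∃ w : (cone φ).X (n - 1), ((cone φ).d (n - 1) n).hom w = z := by
  obtain ⟨m, rfl⟩ : ∃ m, n = m + 1 := ⟨n - 1, by omega⟩
  suffices h : ∃ w : (cone φ).X m, ((cone φ).d m (m + 1)).hom w = z by
    obtain ⟨w, hw⟩ := h
    have e : m + 1 - 1 = m := by omega
    rw [e]
    exact ⟨w, hw⟩
  rw [cone_d] at hz
  obtain ⟨x, y⟩ := z
  have hdx : (E.d (m + 1 + 1) (m + 1 + 1 + 1)).hom x = 0 := neg_eq_zero.1 (congrArg Prod.fst hz)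
  have hdy : (φ.f (m + 1 + 1)).hom x + (J.d (m + 1) (m + 1 + 1)).hom y = 0 := congrArg Prod.snd hz
  haveI := hφ
  haveI : IsIso (HomologicalComplex.homologyMap φ (m + 1)) := inferInstance
  haveI : IsIso (HomologicalComplex.homologyMap φ (m + 1 + 1)) := inferInstance
  obtain ⟨u, hu⟩ := (Groth.BiextChow.mono_homologyMap_iff φ (j := m + 1) (k := m + 1 + 1 + 1)
    (by simp) (by simp)).1 inferInstance x hdx (-y) (by rw [map_neg, neg_eq_iff_add_eq_zero]; exact (add_comm _ _).trans hdy)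
  have hcyc : (J.d (m + 1) (m + 1 + 1)).hom (y + (φ.f (m + 1)).hom u) = 0 := by
    rw [map_add, phi_d, hu]; exact (add_comm _ _).trans hdy
  obtain ⟨v, hv, w, hw⟩ := (Groth.BiextChow.epi_homologyMap_iff φ (j := m) (k := m + 1 + 1)
    (by simp) (by simp)).1 inferInstance _ hcyc
  refine ⟨(v - u, w), ?_⟩
  rw [cone_d]
  refine Prod.ext ?_ ?_
  · show -(E.d (m + 1) (m + 1 + 1)).hom (v - u) = x
    rw [map_sub, hv, hu, zero_sub, neg_neg]
  · show (φ.f (m + 1)).hom (v - u) + (J.d m (m + 1)).hom w = y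
    rw [map_sub, hw]
    abel

/-- Torsion cohomology of quasi-isomorphic complexes with divisible torsion. -/
theorem exists_torsion_bijection (hφ : QuasiIso φ) (s : Finset A) (hE : ∀ n, DivTor s (E.X n))
    (hJ : ∀ n, DivTor s (J.X n)) {j i k : ℤ} (hj : j + 1 = i) (hk : i + 1 = k) :
    Nonempty (Hc E (fun n => DRing.torsionSub (Ideal.span (s : Set A)) (E.X n)) j i k ≃ₗ[A]
      Hc J (fun n => DRing.torsionSub (Ideal.span (s : Set A)) (J.X n)) j i k) := by
  subst hj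
  subst hk
  have hex := exact_torsion s (cone φ) (fun n => (hE (n + 1)).prod (hJ n)) (cone_exact hφ) s (Finset.Subset.refl s)
  set I := Ideal.span (s : Set A)
  let ψ : Zc E (fun n => DRing.torsionSub I (E.X n)) (j + 1) (j + 1 + 1) →ₗ[A]
      Hc J (fun n => DRing.torsionSub I (J.X n)) j (j + 1) (j + 1 + 1) :=
    Submodule.mkQ _ ∘ₗ LinearMap.codRestrict _
      ((φ.f (j + 1)).hom ∘ₗ (Zc E (fun n => DRing.torsionSub I (E.X n)) (j + 1) (j + 1 + 1)).subtype)
      fun z => ⟨DRing.map_mem_torsionSub I (φ.f (j + 1)).hom z.2.1, by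
        show (J.d (j + 1) (j + 1 + 1)).hom ((φ.f (j + 1)).hom z.1) = 0
        rw [phi_d, show (E.d (j + 1) (j + 1 + 1)).hom z.1 = 0 from z.2.2, map_zero]⟩
  have hprod : ∀ (n : ℤ) (a : E.X (n + 1)) (b : J.X n), a ∈ DRing.torsionSub I (E.X (n + 1)) →
      b ∈ DRing.torsionSub I (J.X n) → ((a, b) : (cone φ).X n) ∈ DRing.torsionSub I ((cone φ).X n) := by
    intro n a b ha hb
    show ((a, b) : E.X (n + 1) × J.X n) ∈ DRing.torsionSub I (E.X (n + 1) × J.X n)
    rw [show ((a, b) : E.X (n + 1) × J.X n) = LinearMap.inl A _ _ a + LinearMap.inr A _ _ b by simp]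
    exact Submodule.add_mem _ (DRing.map_mem_torsionSub _ _ ha) (DRing.map_mem_torsionSub _ _ hb)
  have hex' : ∀ (m : ℤ) (z : (cone φ).X (m + 1)), z ∈ DRing.torsionSub I ((cone φ).X (m + 1)) →
      ((cone φ).d (m + 1) (m + 1 + 1)).hom z = 0 →
      ∃ w ∈ DRing.torsionSub I ((cone φ).X m), ((cone φ).d m (m + 1)).hom w = z := by
    intro m z hz hdz
    have h := hex (m + 1) z hz hdz
    rwa [show m + 1 - 1 = m by omega] at h
  have hsurj : Function.Surjective ψ := by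
    intro t
    obtain ⟨⟨y, hy, hdy⟩, rfl⟩ := Submodule.Quotient.mk_surjective _ t
    obtain ⟨⟨u, v⟩, huv, hw⟩ := hex' j ((0, y) : E.X (j + 1 + 1) × J.X (j + 1))
      (hprod _ _ _ (Submodule.zero_mem _) hy) (by
        rw [cone_d]
        refine Prod.ext ?_ ?_
        · show -(E.d (j + 1 + 1) (j + 1 + 1 + 1)).hom 0 = 0
          rw [map_zero, neg_zero]
        · show (φ.f (j + 1 + 1)).hom 0 + (J.d (j + 1) (j + 1 + 1)).hom y = 0
          rw [map_zero, zero_add]
          exact hdy)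
    rw [cone_d] at hw
    have hu : u ∈ DRing.torsionSub I (E.X (j + 1)) :=
      DRing.map_mem_torsionSub I (LinearMap.fst A (E.X (j + 1)) (J.X j)) huv
    have hv : v ∈ DRing.torsionSub I (J.X j) :=
      DRing.map_mem_torsionSub I (LinearMap.snd A (E.X (j + 1)) (J.X j)) huv
    have hdu : (E.d (j + 1) (j + 1 + 1)).hom u = 0 := neg_eq_zero.1 (congrArg Prod.fst hw)
    refine ⟨⟨u, hu, hdu⟩, (Submodule.Quotient.eq _).2 (Submodule.mem_comap.2 (mem_Bc.2 ⟨-v, Submodule.neg_mem _ hv, ?_⟩))⟩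
    have h2 : (φ.f (j + 1)).hom u + (J.d j (j + 1)).hom v = y := congrArg Prod.snd hw
    show (J.d j (j + 1)).hom (-v) = (φ.f (j + 1)).hom u - y
    rw [map_neg, ← h2]
    abel
  have hker : LinearMap.ker ψ =
      (Bc E (fun n => DRing.torsionSub I (E.X n)) j (j + 1)).comap
        (Zc E (fun n => DRing.torsionSub I (E.X n)) (j + 1) (j + 1 + 1)).subtype := by
    refine le_antisymm ?_ ?_
    · rintro ⟨x, hx, hdx⟩ hmem
      obtain ⟨w, hw, hwx⟩ := mem_Bc.1 (Submodule.mem_comap.1 ((Submodule.Quotient.mk_eq_zero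
        ((Bc J (fun n => DRing.torsionSub I (J.X n)) j (j + 1)).comap
          (Zc J (fun n => DRing.torsionSub I (J.X n)) (j + 1) (j + 1 + 1)).subtype)).1 (LinearMap.mem_ker.1 hmem)))
      obtain ⟨m, rfl⟩ : ∃ m, j = m + 1 := ⟨j - 1, by omega⟩
      obtain ⟨⟨u, v⟩, huv, he⟩ := hex' m ((x, -w) : E.X (m + 1 + 1) × J.X (m + 1))
        (hprod _ _ _ hx (Submodule.neg_mem _ hw)) (by
          rw [cone_d]
          refine Prod.ext ?_ ?_
          · show -(E.d (m + 1 + 1) (m + 1 + 1 + 1)).hom x = 0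
            rw [show (E.d (m + 1 + 1) (m + 1 + 1 + 1)).hom x = 0 from hdx, neg_zero]
          · show (φ.f (m + 1 + 1)).hom x + (J.d (m + 1) (m + 1 + 1)).hom (-w) = 0
            rw [map_neg, add_neg_eq_zero]
            exact hwx.symm)
      rw [cone_d] at he
      have hu : u ∈ DRing.torsionSub I (E.X (m + 1)) :=
        DRing.map_mem_torsionSub I (LinearMap.fst A (E.X (m + 1)) (J.X m)) huv
      refine Submodule.mem_comap.2 (mem_Bc.2 ⟨-u, Submodule.neg_mem _ hu, ?_⟩)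
      show (E.d (m + 1) (m + 1 + 1)).hom (-u) = x
      rw [map_neg]
      exact congrArg Prod.fst he
    · rintro ⟨x, hx⟩ hmem
      obtain ⟨u, hu, hux⟩ := mem_Bc.1 (Submodule.mem_comap.1 hmem)
      refine LinearMap.mem_ker.2 ((Submodule.Quotient.mk_eq_zero _).2
        (Submodule.mem_comap.2 (mem_Bc.2 ⟨(φ.f j).hom u, DRing.map_mem_torsionSub I _ hu, ?_⟩)))
      show (J.d j (j + 1)).hom ((φ.f j).hom u) = (φ.f (j + 1)).hom x
      rw [phi_d]
      exact congrArg _ hux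
  exact ⟨(Submodule.quotEquivOfEq _ _ hker.symm).trans (ψ.quotKerEquivOfSurjective hsurj)⟩

end Groth.SuppGood
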