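import Groth.Agent.LocCohTransform.RgammaCompute
import Groth.Agent.LocCohTransform.FlatTorsion
import Groth.Agent.LocCohTransform.InjectiveClasses

/-!
Modules on which torsion submodules are divisible up to torsion.
-/

set_option autoImplicit false
set_option linter.unusedSectionVars false
set_option linter.style.haveILetI false

universe u

open CategoryTheory TensorProduct

namespace Groth.SuppGood

variable {A : Type u} [CommRing A]

/-- The torsion submodules with respect to subfamilies of `s` are divisible by members of `s` up to torsion. -/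
def DivTor (s : Finset A) (M : Type u) [AddCommGroup M] [Module A M] : Prop :=
  ∀ t : Finset A, t ⊆ s → ∀ f ∈ s, ∀ (n : ℕ), ∀ y ∈ DRing.torsionSub (Ideal.span (t : Set A)) M,
    ∃ y' ∈ DRing.torsionSub (Ideal.span (t : Set A)) M, ∃ m : ℕ, f ^ m • (y - f ^ n • y') = 0

variable {s : Finset A}

theorem DivTor.of_equiv {M N : Type u} [AddCommGroup M] [Module A M] [AddCommGroup N] [Module A N]
    (e : M ≃ₗ[A] N) (h : DivTor s M) : DivTor s N := fun t ht f hf n y hy => by
  obtain ⟨y', hy', m, hm⟩ := h t ht f hf n (e.symm y) (DRing.map_mem_torsionSub _ e.symm.toLinearMap hy)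
  refine ⟨e y', DRing.map_mem_torsionSub _ e.toLinearMap hy', m, e.symm.injective ?_⟩
  rw [map_zero, map_smul, map_sub, map_smul, e.symm_apply_apply, hm]

theorem DivTor.prod {M N : Type u} [AddCommGroup M] [Module A M] [AddCommGroup N] [Module A N]
    (hM : DivTor s M) (hN : DivTor s N) : DivTor s (M × N) := fun t ht f hf n y hy => by
  obtain ⟨a, ha, m, hm⟩ := hM t ht f hf n y.1 (DRing.map_mem_torsionSub _ (LinearMap.fst A M N) hy)
  obtain ⟨b, hb, l, hl⟩ := hN t ht f hf n y.2 (DRing.map_mem_torsionSub _ (LinearMap.snd A M N) hy)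
  refine ⟨(a, b), ?_, m + l, Prod.ext ?_ ?_⟩
  · have h1 := DRing.map_mem_torsionSub _ (LinearMap.inl A M N) ha
    have h2 := DRing.map_mem_torsionSub _ (LinearMap.inr A M N) hb
    rw [show ((a, b) : M × N) = LinearMap.inl A M N a + LinearMap.inr A M N b by simp]
    exact Submodule.add_mem _ h1 h2
  · show f ^ (m + l) • (y.1 - f ^ n • a) = 0
    rw [pow_add, mul_comm, mul_smul, hm, smul_zero]
  · show f ^ (m + l) • (y.2 - f ^ n • b) = 0
    rw [pow_add, mul_smul, hl, smul_zero]

theorem divTor_of_injective [IsNoetherianRing A] (M : Type u) [AddCommGroup M] [Module A M]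
    [Module.Injective A M] : DivTor s M := fun t _ f _ n y hy => by
  haveI := Groth.LocCohBase.injective_torsionSub (Ideal.span (t : Set A)) M
  obtain ⟨y', m, hm⟩ := Groth.LocCohTransform.RgammaCompute.exists_div f
    ↥(DRing.torsionSub (Ideal.span (t : Set A)) M) n ⟨y, hy⟩
  exact ⟨y', y'.2, m, congrArg Subtype.val hm⟩

variable {B : Type u} [CommRing B] [Algebra A B]

/-- Restrictions of injective modules. -/
theorem divTor_restrict [IsNoetherianRing B] (M : Type u) [AddCommGroup M] [Module A M] [Module B M]
    [IsScalarTower A B M] [Module.Injective B M] : DivTor s M := fun t _ f _ n y hy => by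
  have h := Groth.LocCohTransform.torsionSub_restrict_eq A B (Ideal.span (t : Set A)) M
  haveI := Groth.LocCohBase.injective_torsionSub ((Ideal.span (t : Set A)).map (algebraMap A B)) M
  obtain ⟨y', m, hm⟩ := Groth.LocCohTransform.RgammaCompute.exists_div (algebraMap A B f)
    ↥(DRing.torsionSub ((Ideal.span (t : Set A)).map (algebraMap A B)) M) n ⟨y, by
      rw [← h] at hy; exact hy⟩
  refine ⟨y', ?_, m, ?_⟩
  · rw [← h]; exact y'.2
  · have := congrArg Subtype.val hm
    simp only [← map_pow, Submodule.coe_smul, Submodule.coe_sub, ZeroMemClass.coe_zero, algebraMap_smul] at this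
    exact this

/-- Flat base changes of injective modules. -/
theorem divTor_baseChange [DecidableEq B] [IsNoetherianRing A] [Module.Flat A B] (G : Finset A) (M : Type u) [AddCommGroup M]
    [Module A M] [Module.Injective A M] : DivTor (G.image (algebraMap A B)) (B ⊗[A] M) := by
  intro t ht f hf n y hy
  obtain ⟨t', -, rfl⟩ := Finset.subset_image_iff.1 ht
  obtain ⟨c, -, rfl⟩ := Finset.mem_image.1 hf
  have hspan : Ideal.span ((t'.image (algebraMap A B) : Finset B) : Set B) =
      (Ideal.span (t' : Set A)).map (algebraMap A B) := by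
    rw [Finset.coe_image, Ideal.map_span]
  rw [hspan, ← Groth.LocCohTransform.range_baseChange_torsionSub (R' := B) (Ideal.span (t' : Set A)) M] at hy ⊢
  obtain ⟨z, rfl⟩ := hy
  induction z using TensorProduct.induction_on with
  | zero => exact ⟨0, Submodule.zero_mem _, 0, by simp⟩
  | tmul b x =>
    haveI := Groth.LocCohBase.injective_torsionSub (Ideal.span (t' : Set A)) M
    obtain ⟨x', m, hm⟩ := Groth.LocCohTransform.RgammaCompute.exists_div c
      ↥(DRing.torsionSub (Ideal.span (t' : Set A)) M) n x
    refine ⟨_, LinearMap.mem_range_self _ (b ⊗ₜ[A] x'), m, ?_⟩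
    rw [← map_pow, ← map_pow, algebraMap_smul, algebraMap_smul, ← LinearMap.map_smul_of_tower, ← map_sub,
      ← LinearMap.map_smul_of_tower, ← TensorProduct.tmul_smul, ← TensorProduct.tmul_sub,
      ← TensorProduct.tmul_smul, hm, TensorProduct.tmul_zero, map_zero]
  | add x y hx hy =>
    obtain ⟨a, ha, m, hm⟩ := hx
    obtain ⟨b, hb, l, hl⟩ := hy
    refine ⟨a + b, Submodule.add_mem _ ha hb, m + l, ?_⟩
    rw [map_add, smul_add, add_sub_add_comm, smul_add, pow_add, mul_comm (algebraMap A B c ^ m),
      mul_smul, hm, smul_zero, zero_add, mul_comm, mul_smul, hl, smul_zero]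

end Groth.SuppGood
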