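import Groth.Agent.SuppGood.Cone
import Groth.Agent.SuppCx.IdealForms

/-!
`HDI` at an arbitrary ideal by a K-injective representative.
-/

set_option autoImplicit false
set_option linter.unusedSectionVars false
set_option linter.style.haveILetI false

universe u

open CategoryTheory CategoryTheory.Limits Opposite Groth.SuppCx Groth.LocCohTransform.SupportExt

attribute [local instance] HasDerivedCategory.standard

namespace Groth.SuppGood

variable {A : Type u} [CommRing A] [IsNoetherianRing A] (I : Ideal A)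

theorem gam_zeroLocus_eq (M : Type u) [AddCommGroup M] [Module A M] :
    Gam (PrimeSpectrum.zeroLocus (I : Set A)) M = DRing.torsionSub I M := by
  refine le_antisymm (fun x hx => ?_) ?_
  · obtain ⟨l, hl⟩ := exists_pow_le_of_zeroLocus (zeroLocus_ann_subset hx)
    exact ⟨l, fun a ha => hl ha⟩
  · rintro x ⟨l, hl⟩
    exact mem_gam_of_killed (J := I ^ l) (fun p hp => Ideal.IsPrime.le_of_pow_le (P := p.asIdeal) hp) hl

theorem gamC_zeroLocus_eq (C : CochainComplex (ModuleCat.{u} A) ℤ) :
    gamC (PrimeSpectrum.zeroLocus (I : Set A)) C = fun n => DRing.torsionSub I (C.X n) :=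
  funext fun n => gam_zeroLocus_eq I (C.X n)

theorem nonempty_HDI_equiv_zero {L : CochainComplex (ModuleCat.{u} A) ℤ} [L.IsKInjective] (K : Dual.D A)
    (i : ℤ) (e : K⟦i⟧ ≅ DerivedCategory.Q.obj L) :
    Nonempty (Dual2.HDI A I K i ≃ₗ[A] Hc L (gamC (PrimeSpectrum.zeroLocus (I : Set A)) L) (-1) 0 1) := by
  obtain ⟨P, hP, hinj, hsurj⟩ := exists_pairing (T := PrimeSpectrum.zeroLocus (I : Set A)) e
  let F := (localCohomology.ringModIdeals (localCohomology.idealPowersDiagram I) ⋙
      DerivedCategory.singleFunctor (ModuleCat.{u} A) 0).op ⋙ (linearYoneda A (Dual.D A)).obj (K⟦i⟧)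
  let V := ULift.{u + 1} (Hc L (gamC (PrimeSpectrum.zeroLocus (I : Set A)) L) (-1) 0 1)
  have hmap : ∀ {j j' : ℕᵒᵖᵒᵖ} (w : j ⟶ j') (v : F.obj j), F.map w v = Groth.DualCore.inDmap
      (Submodule.mapQ (I ^ j'.unop.unop) (I ^ j.unop.unop) LinearMap.id
        (Ideal.pow_le_pow_right (leOfHom w.unop.unop))) ≫ v := by
    intro j j' w v
    show (DerivedCategory.singleFunctor (ModuleCat.{u} A) 0).map _ ≫ v = _
    congr 2
  let s : Cocone F :=
    { pt := ModuleCat.of A V
      ι :=
        { app := fun j => ModuleCat.ofHom (ULift.moduleEquiv.symm.toLinearMap ∘ₗ P (powI I j.unop.unop))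
          naturality := fun j j' w => by
            ext1
            apply LinearMap.ext
            intro v
            show ULift.up (P (powI I j'.unop.unop) (F.map w v)) = ULift.up (P (powI I j.unop.unop) v)
            rw [hmap]
            exact congrArg ULift.up (hP (powI I j.unop.unop) (powI I j'.unop.unop) _ v) } }
  have hd : ∀ j (v : F.obj j), colimit.desc F s (colimit.ι F j v) = ULift.up (P (powI I j.unop.unop) v) :=
    fun j v => ConcreteCategory.congr_hom (colimit.ι_desc s j) v
  refine ⟨(LinearEquiv.ofBijective (colimit.desc F s).hom ⟨?_, fun t => ?_⟩).trans ULift.moduleEquiv⟩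
  · rw [← LinearMap.ker_eq_bot, LinearMap.ker_eq_bot']
    intro x hx
    haveI : PreservesFilteredColimitsOfSize.{0, 0} (forget AddCommGrpCat.{u + 1}) :=
      preservesFilteredColimitsOfSize_shrink.{0, u + 1, 0, u + 1} _
    haveI : PreservesColimit F (forget (ModuleCat.{u + 1} A)) :=
      inferInstanceAs (PreservesColimit F (forget₂ (ModuleCat.{u + 1} A) AddCommGrpCat ⋙ forget AddCommGrpCat))
    obtain ⟨j, v, rfl⟩ := Concrete.colimit_exists_rep F x
    obtain ⟨J', h, h0⟩ := hinj (powI I j.unop.unop) v (congrArg ULift.down ((hd j v).symm.trans hx))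
    obtain ⟨l, hl⟩ := exists_pow_le_of_zeroLocus J'.property
    let w : j ⟶ op (op (max l j.unop.unop)) := (homOfLE (le_max_right l j.unop.unop)).op.op
    rw [← ConcreteCategory.congr_hom (colimit.w F w) v]
    show colimit.ι F _ (F.map w v) = 0
    rw [hmap w v]
    have hle : I ^ max l j.unop.unop ≤ J'.obj := (Ideal.pow_le_pow_right (le_max_left l _)).trans hl
    have hcomp : Submodule.mapQ (I ^ max l j.unop.unop) (I ^ j.unop.unop) LinearMap.id
          (Ideal.pow_le_pow_right (le_max_right l j.unop.unop)) =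
        Submodule.mapQ J'.obj (powI I j.unop.unop).obj LinearMap.id
            (show J'.obj ≤ Submodule.comap LinearMap.id (powI I j.unop.unop).obj from h) ∘ₗ
          Submodule.mapQ (I ^ max l j.unop.unop) J'.obj LinearMap.id hle :=
      Submodule.linearMap_qext _ rfl
    refine (congrArg _ ?_).trans (map_zero _)
    refine (congrArg (fun g => Groth.DualCore.inDmap g ≫ v) hcomp).trans ?_
    exact ((congrArg (· ≫ v) (Groth.DualCore.inDmap_comp _ _)).trans (Category.assoc _ _ _)).trans
      ((congrArg _ h0).trans comp_zero)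
  · obtain ⟨J, v, hv⟩ := hsurj t.down
    obtain ⟨l, hl⟩ := exists_pow_le_of_zeroLocus J.property
    refine ⟨colimit.ι F (op (op l)) (Groth.DualCore.inDmap (Submodule.mapQ (I ^ l) J.obj LinearMap.id hl) ≫ v),
      (hd (op (op l)) _).trans (congrArg ULift.up ?_)⟩
    exact (hP J (powI I l) hl v).trans hv

/-- `HDI` by a K-injective representative. -/
theorem nonempty_HDI_equiv {C : CochainComplex (ModuleCat.{u} A) ℤ} [C.IsKInjective] {K : Dual.D A}
    (e : DerivedCategory.Q.obj C ≅ K) {j i k : ℤ} (hj : j + 1 = i) (hk : i + 1 = k) :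
    Nonempty (Dual2.HDI A I K i ≃ₗ[A] Hc C (fun n => DRing.torsionSub I (C.X n)) j i k) := by
  rw [← gamC_zeroLocus_eq I C]
  obtain ⟨f⟩ := nonempty_HDI_equiv_zero I (L := C⟦i⟧) K i
    ((shiftFunctor (Dual.D A) i).mapIso e.symm ≪≫ ((DerivedCategory.Q.commShiftIso i).app C).symm)
  obtain ⟨g⟩ := nonempty_Hc_shift C (PrimeSpectrum.zeroLocus (I : Set A)) i (-1) 0 1
  obtain ⟨h⟩ := nonempty_Hc_congr C (S := gamC (PrimeSpectrum.zeroLocus (I : Set A)) C) (j := -1 + i)
    (i := 0 + i) (k := 1 + i) (show i = 0 + i by omega) (show j = -1 + i by omega) (show k = 1 + i by omega)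
  exact ⟨f ≪≫ₗ g ≪≫ₗ h⟩

end Groth.SuppGood
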